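import Cfsg.Agent.Lib.UFour.CoverData
import Cfsg.Agent.Lib.Leech.Sub.Split

/-! Kernel checks of the lifted chain of U4(3), cover A. -/

set_option autoImplicit false
-- the pieces are checked one after another, which keeps the peak memory low
set_option Elab.async false
set_option maxRecDepth 100000

namespace CfsgLib.UFour

open CfsgLib.Schur.MonoCover CfsgLib.Leech

theorem tabChkA_0 : pieceOK 110 (List.range coverA.nE) (coverA.tabChk) 0 = true := by decide +kernel

theorem tabChkA_1 : pieceOK 110 (List.range coverA.nE) (coverA.tabChk) 1 = true := by decide +kernel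

theorem tabChkA_all : (List.range coverA.nE).all (coverA.tabChk) = true :=
  all_of_pieces (n := 110) (m := 2) (by decide +kernel) fun i hi =>
    match i, hi with
    | 0, _ => tabChkA_0
    | 1, _ => tabChkA_1
    | j + 2, h => absurd h (by omega)

theorem defChkA_0 : pieceOK 70 (List.range coverA.nU) (coverA.defChk) 0 = true := by decide +kernel

theorem defChkA_1 : pieceOK 70 (List.range coverA.nU) (coverA.defChk) 1 = true := by decide +kernel

theorem defChkA_2 : pieceOK 70 (List.range coverA.nU) (coverA.defChk) 2 = true := by decide +kernel

theorem defChkA_all : (List.range coverA.nU).all (coverA.defChk) = true :=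
  all_of_pieces (n := 70) (m := 3) (by decide +kernel) fun i hi =>
    match i, hi with
    | 0, _ => defChkA_0
    | 1, _ => defChkA_1
    | 2, _ => defChkA_2
    | j + 3, h => absurd h (by omega)

theorem invChkA_all : (List.range coverA.ng).all coverA.invChk = true := by decide +kernel

theorem levChkA_0 : coverA.levChk 0 = true := by decide +kernel

theorem levChkA_1 : coverA.levChk 1 = true := by decide +kernel

theorem levChkA_2 : coverA.levChk 2 = true := by decide +kernel

theorem levChkA_3 : coverA.levChk 3 = true := by decide +kernel

theorem levChkA_4 : coverA.levChk 4 = true := by decide +kernel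

theorem levChkA_5 : coverA.levChk 5 = true := by decide +kernel

theorem schChkA0_0 : pieceOK 60 (schA0) (coverA.schChk 0) 0 = true := by decide +kernel

theorem schChkA0_1 : pieceOK 60 (schA0) (coverA.schChk 0) 1 = true := by decide +kernel

theorem schChkA0_2 : pieceOK 60 (schA0) (coverA.schChk 0) 2 = true := by decide +kernel

theorem schChkA0_3 : pieceOK 60 (schA0) (coverA.schChk 0) 3 = true := by decide +kernel

theorem schChkA0_4 : pieceOK 60 (schA0) (coverA.schChk 0) 4 = true := by decide +kernel

theorem schChkA0_all : (schA0).all (coverA.schChk 0) = true :=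
  all_of_pieces (n := 60) (m := 5) (by decide +kernel) fun i hi =>
    match i, hi with
    | 0, _ => schChkA0_0
    | 1, _ => schChkA0_1
    | 2, _ => schChkA0_2
    | 3, _ => schChkA0_3
    | 4, _ => schChkA0_4
    | j + 5, h => absurd h (by omega)

theorem schChkA1_0 : pieceOK 60 (schA1) (coverA.schChk 1) 0 = true := by decide +kernel

theorem schChkA1_1 : pieceOK 60 (schA1) (coverA.schChk 1) 1 = true := by decide +kernel

theorem schChkA1_all : (schA1).all (coverA.schChk 1) = true :=
  all_of_pieces (n := 60) (m := 2) (by decide +kernel) fun i hi =>
    match i, hi with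
    | 0, _ => schChkA1_0
    | 1, _ => schChkA1_1
    | j + 2, h => absurd h (by omega)

theorem schChkA2_0 : pieceOK 60 (schA2) (coverA.schChk 2) 0 = true := by decide +kernel

theorem schChkA2_all : (schA2).all (coverA.schChk 2) = true :=
  all_of_pieces (n := 60) (m := 1) (by decide +kernel) fun i hi =>
    match i, hi with
    | 0, _ => schChkA2_0
    | j + 1, h => absurd h (by omega)

theorem schChkA3_0 : pieceOK 60 (schA3) (coverA.schChk 3) 0 = true := by decide +kernel

theorem schChkA3_all : (schA3).all (coverA.schChk 3) = true :=
  all_of_pieces (n := 60) (m := 1) (by decide +kernel) fun i hi =>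
    match i, hi with
    | 0, _ => schChkA3_0
    | j + 1, h => absurd h (by omega)

theorem schChkA4_0 : pieceOK 60 (schA4) (coverA.schChk 4) 0 = true := by decide +kernel

theorem schChkA4_all : (schA4).all (coverA.schChk 4) = true :=
  all_of_pieces (n := 60) (m := 1) (by decide +kernel) fun i hi =>
    match i, hi with
    | 0, _ => schChkA4_0
    | j + 1, h => absurd h (by omega)

theorem schChkA5_0 : pieceOK 60 (schA5) (coverA.schChk 5) 0 = true := by decide +kernel

theorem schChkA5_all : (schA5).all (coverA.schChk 5) = true :=
  all_of_pieces (n := 60) (m := 1) (by decide +kernel) fun i hi =>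
    match i, hi with
    | 0, _ => schChkA5_0
    | j + 1, h => absurd h (by omega)

theorem pickChkA_all : (List.range coverA.nlev).all (fun k => (coverA.pick k).all (coverA.pickChk k)) = true := by decide +kernel

theorem wordChkA : (wordA.all (fun i => decide (i < 2 * coverA.ng) &&
        decide ((if i < coverA.ng then i else i - coverA.ng) ∈ coverA.gens 0)) &&
      (List.range coverA.ng).all (fun j => Nat.beq (wordA.count j) (wordA.count (coverA.ng + j))) &&
      coverA.eqW 1 wordA []) = true := by decide +kernel

theorem wordB_in_A : coverA.eqW 0 wordB [] = true := by decide +kernel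

end CfsgLib.UFour
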