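import Cfsg.Agent.Lib.UFour.CoverData
import Cfsg.Agent.Lib.Leech.Sub.Split

/-! Kernel checks of the lifted chain of U4(3), cover B. -/

set_option autoImplicit false
-- the pieces are checked one after another, which keeps the peak memory low
set_option Elab.async false
set_option maxRecDepth 100000

namespace CfsgLib.UFour

open CfsgLib.Schur.MonoCover CfsgLib.Leech

theorem tabChkB_0 : pieceOK 110 (List.range coverB.nE) (coverB.tabChk) 0 = true := by decide +kernel

theorem tabChkB_1 : pieceOK 110 (List.range coverB.nE) (coverB.tabChk) 1 = true := by decide +kernel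

theorem tabChkB_all : (List.range coverB.nE).all (coverB.tabChk) = true :=
  all_of_pieces (n := 110) (m := 2) (by decide +kernel) fun i hi =>
    match i, hi with
    | 0, _ => tabChkB_0
    | 1, _ => tabChkB_1
    | j + 2, h => absurd h (by omega)

theorem defChkB_0 : pieceOK 70 (List.range coverB.nU) (coverB.defChk) 0 = true := by decide +kernel

theorem defChkB_1 : pieceOK 70 (List.range coverB.nU) (coverB.defChk) 1 = true := by decide +kernel

theorem defChkB_2 : pieceOK 70 (List.range coverB.nU) (coverB.defChk) 2 = true := by decide +kernel

theorem defChkB_all : (List.range coverB.nU).all (coverB.defChk) = true :=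
  all_of_pieces (n := 70) (m := 3) (by decide +kernel) fun i hi =>
    match i, hi with
    | 0, _ => defChkB_0
    | 1, _ => defChkB_1
    | 2, _ => defChkB_2
    | j + 3, h => absurd h (by omega)

theorem invChkB_all : (List.range coverB.ng).all coverB.invChk = true := by decide +kernel

theorem levChkB_0 : coverB.levChk 0 = true := by decide +kernel

theorem levChkB_1 : coverB.levChk 1 = true := by decide +kernel

theorem levChkB_2 : coverB.levChk 2 = true := by decide +kernel

theorem levChkB_3 : coverB.levChk 3 = true := by decide +kernel

theorem levChkB_4 : coverB.levChk 4 = true := by decide +kernel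

theorem levChkB_5 : coverB.levChk 5 = true := by decide +kernel

theorem schChkB0_0 : pieceOK 60 (schB0) (coverB.schChk 0) 0 = true := by decide +kernel

theorem schChkB0_1 : pieceOK 60 (schB0) (coverB.schChk 0) 1 = true := by decide +kernel

theorem schChkB0_2 : pieceOK 60 (schB0) (coverB.schChk 0) 2 = true := by decide +kernel

theorem schChkB0_3 : pieceOK 60 (schB0) (coverB.schChk 0) 3 = true := by decide +kernel

theorem schChkB0_4 : pieceOK 60 (schB0) (coverB.schChk 0) 4 = true := by decide +kernel

theorem schChkB0_all : (schB0).all (coverB.schChk 0) = true :=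
  all_of_pieces (n := 60) (m := 5) (by decide +kernel) fun i hi =>
    match i, hi with
    | 0, _ => schChkB0_0
    | 1, _ => schChkB0_1
    | 2, _ => schChkB0_2
    | 3, _ => schChkB0_3
    | 4, _ => schChkB0_4
    | j + 5, h => absurd h (by omega)

theorem schChkB1_0 : pieceOK 60 (schB1) (coverB.schChk 1) 0 = true := by decide +kernel

theorem schChkB1_1 : pieceOK 60 (schB1) (coverB.schChk 1) 1 = true := by decide +kernel

theorem schChkB1_all : (schB1).all (coverB.schChk 1) = true :=
  all_of_pieces (n := 60) (m := 2) (by decide +kernel) fun i hi =>
    match i, hi with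
    | 0, _ => schChkB1_0
    | 1, _ => schChkB1_1
    | j + 2, h => absurd h (by omega)

theorem schChkB2_0 : pieceOK 60 (schB2) (coverB.schChk 2) 0 = true := by decide +kernel

theorem schChkB2_all : (schB2).all (coverB.schChk 2) = true :=
  all_of_pieces (n := 60) (m := 1) (by decide +kernel) fun i hi =>
    match i, hi with
    | 0, _ => schChkB2_0
    | j + 1, h => absurd h (by omega)

theorem schChkB3_0 : pieceOK 60 (schB3) (coverB.schChk 3) 0 = true := by decide +kernel

theorem schChkB3_all : (schB3).all (coverB.schChk 3) = true :=
  all_of_pieces (n := 60) (m := 1) (by decide +kernel) fun i hi =>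
    match i, hi with
    | 0, _ => schChkB3_0
    | j + 1, h => absurd h (by omega)

theorem schChkB4_0 : pieceOK 60 (schB4) (coverB.schChk 4) 0 = true := by decide +kernel

theorem schChkB4_all : (schB4).all (coverB.schChk 4) = true :=
  all_of_pieces (n := 60) (m := 1) (by decide +kernel) fun i hi =>
    match i, hi with
    | 0, _ => schChkB4_0
    | j + 1, h => absurd h (by omega)

theorem schChkB5_0 : pieceOK 60 (schB5) (coverB.schChk 5) 0 = true := by decide +kernel

theorem schChkB5_all : (schB5).all (coverB.schChk 5) = true :=
  all_of_pieces (n := 60) (m := 1) (by decide +kernel) fun i hi =>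
    match i, hi with
    | 0, _ => schChkB5_0
    | j + 1, h => absurd h (by omega)

theorem pickChkB_all : (List.range coverB.nlev).all (fun k => (coverB.pick k).all (coverB.pickChk k)) = true := by decide +kernel

theorem wordChkB : (wordB.all (fun i => decide (i < 2 * coverB.ng) &&
        decide ((if i < coverB.ng then i else i - coverB.ng) ∈ coverB.gens 0)) &&
      (List.range coverB.ng).all (fun j => Nat.beq (wordB.count j) (wordB.count (coverB.ng + j))) &&
      coverB.eqW 1 wordB []) = true := by decide +kernel

end CfsgLib.UFour
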