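import Cfsg.Agent.Lib.UFour.MultData
import Cfsg.Agent.Lib.Schur.LinearPieces

/-! Kernel checks of the tables of the Sylow subgroups of U4(3). -/

set_option autoImplicit false
-- the checks run one after another, which keeps the peak memory low
set_option Elab.async false
set_option maxRecDepth 100000

namespace CfsgLib.UFour

open CfsgLib.Schur.LinTable CfsgLib.Schur.PermTable

theorem progOK : (List.range uElts.prog.length).all uElts.progAt = true := by decide +kernel

theorem tabTwo_ok : sylTab_two.ok = true := by decide +kernel

theorem latTwo_ok : sylTab_two.multiOK multiCert_two = true := by decide +kernel

theorem headTwo_ok : link_two.headOK uElts sylTab_two = true := by decide +kernel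

theorem elTwo_ok : (List.range sylTab_two.N).all (link_two.elAt uElts sylTab_two) = true := by decide +kernel

theorem conjTwo_ok : link_two.conjOK uElts sylTab_two multiCert_two.base = true := by decide +kernel

theorem restThree_ok : sylTab_three.restOK = true := by decide +kernel

theorem runThree_0 : sylTab_three.runPieceOK 730 0 = true := by decide +kernel

theorem runThree_1 : sylTab_three.runPieceOK 730 1 = true := by decide +kernel

theorem edgeThree_ok :
    (List.range sylTab_three.N).all (sylTab_three.edgeOK (sylTab_three.knownAt 730 2)) = true := by
  decide +kernel

theorem tabThree_ok : sylTab_three.ok = true :=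
  Tab.ok_of_pieces _ (n := 730) (m := 2) restThree_ok (by decide +kernel)
    (fun i hi => match i, hi with
    | 0, _ => runThree_0
    | 1, _ => runThree_1
    | j + 2, h => absurd h (by omega))
    edgeThree_ok

theorem latThree_ok : sylTab_three.multiOK multiCert_three = true := by decide +kernel

theorem headThree_ok : link_three.headOK uElts sylTab_three = true := by decide +kernel

theorem elThree_ok : (List.range sylTab_three.N).all (link_three.elAt uElts sylTab_three) = true := by decide +kernel

theorem conjThree_ok : link_three.conjOK uElts sylTab_three multiCert_three.base = true := by decide +kernel

end CfsgLib.UFour
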