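import Cfsg.Agent.Lib.UFour.Model
import Cfsg.Agent.Lib.UFour.CoverChkA
import Cfsg.Agent.Lib.UFour.CoverChkB
import Cfsg.Agent.Lib.UFour.MultChecks
import Cfsg.Agent.Lib.Schur.MonoLift
import Cfsg.Agent.Lib.Schur.StemTriple
import Cfsg.Agent.Lib.Classical.UnitarySimple
import Cfsg.Agent.Lib.Classical.UnitaryOrder

/-!
The multiplier of `U₄(3)` is `4 × 3 × 3`.
-/

set_option autoImplicit false
set_option maxRecDepth 100000
set_option linter.style.haveILetI false

namespace CfsgLib.UFour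

open Cfsg CfsgLib.Schur CfsgLib.Schur.PermTable CfsgLib.Schur.MonoCover
open scoped commutatorElement

universe u

theorem validA : coverA.Valid where
  hm := Nat.succ_pos _
  hc := Nat.succ_pos _
  htab := tabChkA_all
  hinv := invChkA_all
  hdef := defChkA_all
  hlev := List.all_eq_true.2 fun k hk => by
    have hk' : k < 6 := List.mem_range.1 hk
    interval_cases k
    exacts [levChkA_0, levChkA_1, levChkA_2, levChkA_3, levChkA_4, levChkA_5]
  hlast := rfl
  hsch := fun k hk => by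
    have hk' : k < 6 := hk
    interval_cases k
    exacts [schChkA0_all, schChkA1_all, schChkA2_all, schChkA3_all, schChkA4_all, schChkA5_all]
  hpick := fun k hk => List.all_eq_true.1 pickChkA_all k (List.mem_range.2 hk)

theorem validB : coverB.Valid where
  hm := Nat.succ_pos _
  hc := Nat.succ_pos _
  htab := tabChkB_all
  hinv := invChkB_all
  hdef := defChkB_all
  hlev := List.all_eq_true.2 fun k hk => by
    have hk' : k < 6 := List.mem_range.1 hk
    interval_cases k
    exacts [levChkB_0, levChkB_1, levChkB_2, levChkB_3, levChkB_4, levChkB_5]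
  hlast := rfl
  hsch := fun k hk => by
    have hk' : k < 6 := hk
    interval_cases k
    exacts [schChkB0_all, schChkB1_all, schChkB2_all, schChkB3_all, schChkB4_all, schChkB5_all]
  hpick := fun k hk => List.all_eq_true.1 pickChkB_all k (List.mem_range.2 hk)

theorem orbitProd_eq : Data.orbitProd coverA 0 coverA.nlev = 3265920 := by decide +kernel

theorem gens0 : ∀ g, g ∈ coverA.gens 0 → g = 0 ∨ g = 1 := by decide +kernel

theorem gens_same : coverB.gens 0 = coverA.gens 0 ∧ coverB.ng = coverA.ng := ⟨rfl, rfl⟩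

variable {K : Type u} [Field K] [Fintype K] (hK : Fintype.card K = 9)

include hK in
/-- `SU₄(3) → PSU₄(3)` is a stem extension with cyclic kernel of order four. -/
theorem unitary_part : Nat.card (PSU 4 K 3) = 3265920 ∧
    ∃ σ : SU 4 K 3 →* PSU 4 K 3, IsStemExtension σ ∧ Nat.card σ.ker = 4 ∧ IsCyclic σ.ker := by
  obtain ⟨B⟩ := Classical.Herm.exists_conj_of_card (F := K) (q := 3) (by rw [hK]; rfl)
  haveI : CharP K 3 := charP_of_card_eq_prime_pow (f := 2) hK
  haveI : Fact (Nat.Prime 3) := ⟨Nat.prime_three⟩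
  have hc : Nat.card (Subgroup.center (SU 4 K 3)) = 4 := by
    rw [Classical.Herm.card_center B (by norm_num)]; rfl
  refine ⟨?_, QuotientGroup.mk' (Subgroup.center (SU 4 K 3)), ?_, ?_, ?_⟩
  · have h1 := Classical.Herm.card_SU B (n := 4) (by norm_num)
    rw [Classical.Herm.card_GU B, Subgroup.card_eq_card_quotient_mul_card_subgroup (Subgroup.center (SU 4 K 3)),
      hc] at h1
    simp [Finset.prod_range_succ, Nat.even_iff] at h1
    show Nat.card (SU 4 K 3 ⧸ Subgroup.center (SU 4 K 3)) = _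
    omega
  · refine ⟨QuotientGroup.mk'_surjective _, by rw [QuotientGroup.ker_mk'], ?_⟩
    rw [Classical.Herm.commutator_eq_top B 3 (by norm_num) (by norm_num)]
    exact le_top
  · rw [QuotientGroup.ker_mk', hc]
  · rw [QuotientGroup.ker_mk']
    let f : Subgroup.center (SU 4 K 3) →* K :=
      { toFun := fun g => (g : SU 4 K 3).1.1 0 0
        map_one' := by simp
        map_mul' := fun a b => by
          obtain ⟨c, hc'⟩ := (Classical.Herm.center_iff B (by norm_num) _).1 a.2
          simp [hc', Matrix.mul_apply, Matrix.smul_apply, Matrix.one_apply] }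
    refine isCyclic_of_injective_ringHom f fun a b e => ?_
    obtain ⟨c, hc'⟩ := (Classical.Herm.center_iff B (by norm_num) _).1 a.2
    obtain ⟨d, hd'⟩ := (Classical.Herm.center_iff B (by norm_num) _).1 b.2
    have e' : c = d := by simpa [f, hc', hd', Matrix.smul_apply] using e
    exact Subtype.ext (Subtype.ext (Subtype.ext (by rw [hc', hd', e'])))

include hK in
/-- The kernel of a stem extension is spanned by three elements. -/
theorem ker_bound {ρ : PSU 4 K 3 →* Equiv.Perm (Fin 126)} (hρ : Function.Injective ρ)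
    (h0 : ∃ x, Acts (E := uElts) ρ x (uElts.P 0)) (h1 : ∃ x, Acts (E := uElts) ρ x (uElts.P 1))
    {Γ : Type u} [Group Γ] [Finite Γ] (σ : Γ →* PSU 4 K 3) (hσ : IsStemExtension σ) :
    ∃ π : Multiplicative (ZMod 4 × ZMod 3 × ZMod 3) →* σ.ker, Function.Surjective π := by
  have hcard := (unitary_part hK).1
  obtain ⟨U2, hU2, a, ha, ha'⟩ := bound_of_link_multi (M := 25515) (ℓ := 2) hρ h0 h1 progOK link_two
    tabTwo_ok latTwo_ok headTwo_ok elTwo_ok conjTwo_ok (by rw [hcard]; rfl) (by norm_num) σ hσ.1 hσ.2.1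
  obtain ⟨U3, hU3, b, hb, hb'⟩ := bound_of_link_multi (M := 4480) (ℓ := 3) hρ h0 h1 progOK link_three
    tabThree_ok latThree_ok headThree_ok elThree_ok conjThree_ok (by rw [hcard]; rfl) (by norm_num) σ hσ.1 hσ.2.1
  haveI : Fact (1 < 4) := ⟨by norm_num⟩
  haveI : Fact (1 < 3) := ⟨by norm_num⟩
  refine Triple.exists_surjection hσ.2.1 (ha 0).1 (hb 0).1 (hb 1).1 (ha 0).2 (hb 0).2 (hb 1).2
    (Triple.ker_le_of_local hσ _ fun ℓ hℓ => ?_)
  by_cases h2 : ℓ = 2
  · subst h2
    refine ⟨U2, hU2, fun z hz hzd => Subgroup.closure_mono ?_ (ha' z hz hzd)⟩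
    rintro _ ⟨s, hs, rfl⟩
    have hs' : s < 1 := hs
    obtain rfl : s = 0 := by omega
    simp
  by_cases h3 : ℓ = 3
  · subst h3
    refine ⟨U3, hU3, fun z hz hzd => Subgroup.closure_mono ?_ (hb' z hz hzd)⟩
    rintro _ ⟨s, hs, rfl⟩
    have hs' : s < 2 := hs
    interval_cases s <;> simp
  haveI := Fact.mk hℓ
  have hnd : ¬ ℓ ^ 2 ∣ Nat.card (PSU 4 K 3) := by
    rw [hcard]
    intro hd
    have hle := Nat.le_of_dvd (by norm_num) hd
    have hlt : ℓ < 1808 := by nlinarith
    have hall : ∀ m < 1808, m * m ∣ 3265920 → m = 1 ∨ 2 ∣ m ∨ 3 ∣ m := by decide +kernel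
    rcases hall ℓ hlt (by rwa [← sq]) with h | h | h
    · exact hℓ.one_lt.ne' h
    · exact h2 ((Nat.prime_dvd_prime_iff_eq Nat.prime_two hℓ).1 h).symm
    · exact h3 ((Nat.prime_dvd_prime_iff_eq Nat.prime_three hℓ).1 h).symm
  haveI : Finite (PSU 4 K 3) := Nat.finite_of_card_ne_zero (by rw [hcard]; norm_num)
  refine ⟨(default : Sylow ℓ (PSU 4 K 3)), Sylow.not_dvd_index _, fun z hz hzd => ?_⟩
  have hP := (default : Sylow ℓ (PSU 4 K 3)).card_eq_multiplicity
  haveI : IsCyclic ((default : Sylow ℓ (PSU 4 K 3)) : Subgroup (PSU 4 K 3)) := by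
    have hle : (Nat.card (PSU 4 K 3)).factorization ℓ ≤ 1 := by
      by_contra hc
      exact hnd ((pow_dvd_pow ℓ (by omega)).trans (Nat.ordProj_dvd _ ℓ))
    interval_cases hf : (Nat.card (PSU 4 K 3)).factorization ℓ
    · rw [pow_zero] at hP
      have : Subsingleton ((default : Sylow ℓ (PSU 4 K 3)) : Subgroup (PSU 4 K 3)) := (Nat.card_eq_one_iff_unique.1 hP).1
      exact isCyclic_of_subsingleton
    · rw [pow_one] at hP
      exact isCyclic_of_prime_card hP
  rw [preimage_commutator_eq_bot_of_isCyclic σ hσ.2.1] at hzd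
  rw [Subgroup.mem_bot.1 hzd]
  exact one_mem _

include hK in
/-- The multiplier. -/
theorem multiplier : HasSchurMultiplier (PSU 4 K 3) (Multiplicative (ZMod 4 × ZMod 3 × ZMod 3)) := by
  obtain ⟨e⟩ := Classical.KleinSix.pomega_six_minus (F := F3) (K := K) (q := 3) (ZMod.card 3)
    (by rw [hK]; rfl) 0 1 hab
  obtain ⟨hcard, σ₁, h₁, hk₁, hcyc⟩ := unitary_part hK
  obtain ⟨ρ, hρ⟩ := exists_action
  haveI : Finite (POmega F3 q6) := Finite.of_equiv _ e.symm.toEquiv
  have hcardG : Nat.card (POmega F3 q6) = 3265920 := (Nat.card_congr e.toEquiv).trans hcard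
  have hle : Nat.card (POmega F3 q6) ≤ Data.orbitProd coverA 0 coverA.nlev := by rw [hcardG, orbitProd_eq]
  have hXA : ∀ g ∈ coverA.gens 0, ∀ i : Fin 126, ((ρ (X g) i : Fin 126) : ℕ) = coverA.img g i := by
    intro g hg i
    rcases gens0 g hg with rfl | rfl
    · exact (hρ 0 i).trans (genChk 0 i).2.1
    · exact (hρ 1 i).trans (genChk 1 i).2.1
  have hXB : ∀ g ∈ coverB.gens 0, ∀ i : Fin 126, ((ρ (X g) i : Fin 126) : ℕ) = coverB.img g i := by
    intro g hg i
    have h := hXA g (gens_same.1 ▸ hg) i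
    rcases gens0 g (gens_same.1 ▸ hg) with rfl | rfl
    · exact h.trans (imgEq 0 i)
    · exact h.trans (imgEq 1 i)
  obtain ⟨hgen, hinj⟩ := Data.chain_generates validA ρ X hXA hle
  obtain ⟨ΓA, _, _, σA, elA, zA, hsA, hkA, hoA, hlA, hvA⟩ :=
    Data.exists_stem_lifts validA ρ X hXA hgen hle wordA (r := 1) wordChkA (Nat.coprime_one_left _)
  obtain ⟨ΓB, _, _, σB, elB, zB, hsB, hkB, hoB, hlB, hvB⟩ :=
    Data.exists_stem_lifts validB ρ X hXB (gens_same.1.symm ▸ hgen)
      (hle.trans (le_of_eq (by decide +kernel))) wordB (r := 1) wordChkB (Nat.coprime_one_left _)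
  obtain ⟨h₂, hk₂⟩ := Triple.isStem_comp e hsA
  obtain ⟨h₃, hk₃⟩ := Triple.isStem_comp e hsB
  have hc₂ : Nat.card (e.toMonoidHom.comp σA).ker = 3 := by
    rw [hk₂, hkA, Nat.card_zpowers, hoA]; rfl
  have hc₃ : Nat.card (e.toMonoidHom.comp σB).ker = 3 := by
    rw [hk₃, hkB, Nat.card_zpowers, hoB]; rfl
  have hw := wordChkB
  simp only [Bool.and_eq_true] at hw
  obtain ⟨⟨hmem, hbal⟩, heqB⟩ := hw
  have hv2 := hvA wordB 0 hmem wordB_in_A
  have hv3 := hvB wordB 1 hmem heqB
  have hmem' := List.all_eq_true.1 hmem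
  simp only [Bool.and_eq_true, decide_eq_true_eq] at hmem'
  simp only [List.all_eq_true, List.mem_range, Nat.beq_eq] at hbal
  obtain ⟨Γ, _, _, σ, hσ, ⟨k⟩⟩ := Triple.exists_stem_triple h₁ h₂ h₃ (p := 3) Nat.prime_three
    (by rw [hk₁]; norm_num) hc₂ hc₃ coverB.ng wordB elA elB
    (fun i hi => by
      obtain ⟨hlt, hg⟩ := hmem' i hi
      refine ⟨hlt, ?_, fun hge => ?_⟩
      · show e (σA _) = e (σB _)
        rw [(hlA _ hg).1, (hlB _ hg).1]
      · rw [if_neg (not_lt.2 hge)] at hg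
        have hA := (hlA _ hg).2
        have hB := (hlB _ hg).2
        rw [← gens_same.2, Nat.add_sub_cancel' hge] at hA
        rw [Nat.add_sub_cancel' hge] at hB
        exact ⟨hA, hB⟩)
    hbal (by rw [hv2, pow_zero]) (by
      rw [hv3, pow_one]
      intro h
      rw [h, orderOf_one] at hoB
      exact absurd hoB (by decide +kernel))
  refine ⟨⟨Γ, inferInstance, inferInstance, σ, hσ, ⟨?_⟩⟩, fun Δ _ _ τ hτ => ?_⟩
  · haveI := hcyc
    haveI : Fact (Nat.Prime 3) := ⟨Nat.prime_three⟩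
    haveI : IsCyclic (e.toMonoidHom.comp σA).ker := isCyclic_of_prime_card hc₂
    haveI : IsCyclic (e.toMonoidHom.comp σB).ker := isCyclic_of_prime_card hc₃
    refine k.trans ((MulEquiv.prodCongr (mulEquivOfCyclicCardEq (G' := Multiplicative (ZMod 4)) ?_)
      ((MulEquiv.prodCongr (mulEquivOfCyclicCardEq (G' := Multiplicative (ZMod 3)) ?_)
        (mulEquivOfCyclicCardEq (G' := Multiplicative (ZMod 3)) ?_)).trans
          (MulEquiv.prodMultiplicative _ _).symm)).trans (MulEquiv.prodMultiplicative _ _).symm)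
    · rw [hk₁, Nat.card_congr Multiplicative.toAdd, Nat.card_zmod]
    · rw [hc₂, Nat.card_congr Multiplicative.toAdd, Nat.card_zmod]
    · rw [hc₃, Nat.card_congr Multiplicative.toAdd, Nat.card_zmod]
  · let ρ' : PSU 4 K 3 →* Equiv.Perm (Fin 126) := ρ.comp e.symm.toMonoidHom
    refine ker_bound hK (ρ := ρ') (hinj.comp e.symm.injective) ⟨e (X 0), fun i => ?_⟩ ⟨e (X 1), fun i => ?_⟩ τ hτ
    · show ((ρ (e.symm (e (X 0))) i : Fin 126) : ℕ) = _
      rw [e.symm_apply_apply]
      exact hρ 0 i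
    · show ((ρ (e.symm (e (X 1))) i : Fin 126) : ℕ) = _
      rw [e.symm_apply_apply]
      exact hρ 1 i

end CfsgLib.UFour
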