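import Cfsg.Agent.Lib.UFour.CoverTabs
import Cfsg.Agent.Lib.Schur.MonoCover

/-!
The stabiliser chain of the two lifted groups (generated).
-/

set_option autoImplicit false
set_option maxRecDepth 100000

namespace CfsgLib.UFour

/-- transversal definitions -/
def elDef : List (ℕ × ℕ) :=
  [(0, 0), (1, 0), (0, 27), (1, 27), (0, 28), (1, 28), (0, 29), (1, 29), (0, 30), (1, 30),
   (0, 31), (1, 31), (0, 32), (1, 32), (1, 33), (0, 34), (1, 34), (1, 35), (1, 36), (0, 37),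
   (1, 37), (0, 38), (1, 39), (0, 40), (0, 41), (1, 41), (0, 42), (1, 42), (0, 43), (1, 43),
   (0, 44), (1, 44), (0, 45), (1, 46), (0, 47), (1, 47), (0, 48), (1, 49), (0, 50), (1, 50),
   (0, 51), (1, 51), (0, 52), (1, 52), (0, 53), (1, 53), (1, 54), (0, 55), (1, 55), (0, 57),
   (1, 57), (1, 58), (0, 59), (1, 59), (0, 60), (0, 61), (0, 62), (1, 62), (0, 63), (1, 63),
   (0, 64), (1, 65), (0, 66), (1, 66), (0, 67), (0, 69), (1, 69), (1, 71), (1, 72), (1, 73),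
   (0, 75), (0, 76), (1, 77), (0, 78), (0, 80), (0, 81), (1, 81), (0, 82), (1, 83), (0, 84),
   (0, 86), (1, 87), (0, 88), (1, 88), (0, 89), (1, 89), (1, 90), (1, 91), (0, 93), (0, 94),
   (0, 95), (1, 95), (0, 96), (1, 97), (0, 99), (1, 99), (0, 100), (1, 100), (1, 101), (1, 102),
   (0, 105), (0, 106), (1, 106), (0, 107), (1, 108), (0, 109), (1, 109), (0, 110), (1, 110), (0, 111),
   (1, 112), (0, 115), (1, 117), (0, 120), (1, 120), (1, 121), (0, 122), (0, 124), (0, 126), (0, 129),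
   (0, 131), (1, 131), (1, 140), (1, 143), (1, 150), (2, 0), (3, 0), (2, 152), (3, 152), (2, 153),
   (3, 153), (2, 154), (2, 155), (3, 155), (2, 156), (3, 156), (2, 157), (3, 158), (2, 159), (3, 160),
   (2, 161), (3, 161), (2, 162), (2, 163), (2, 164), (3, 164), (2, 165), (2, 167), (3, 167), (2, 168),
   (3, 168), (2, 169), (2, 171), (3, 171), (2, 172), (3, 172), (3, 174), (2, 175), (3, 175), (3, 177),
   (3, 179), (2, 181), (3, 184), (2, 185), (2, 188), (3, 188), (3, 192), (2, 193), (2, 194), (4, 0),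
   (4, 196), (5, 196), (4, 197), (5, 197), (4, 198), (4, 199), (4, 200), (4, 201), (5, 201), (5, 205),
   (6, 0), (7, 0), (8, 0), (9, 0), (11, 0), (9, 209), (11, 209), (11, 210), (11, 212), (12, 0)]

/-- orbit of level 0 -/
def pts0 : List (ℕ × ℕ) :=
  [(0, 0), (99, 27), (118, 28), (67, 29), (53, 30), (19, 31), (52, 32), (95, 33), (82, 34), (103, 35),
   (73, 36), (107, 37), (106, 38), (125, 39), (44, 40), (27, 41), (16, 42), (85, 43), (20, 44), (74, 45),
   (101, 46), (83, 47), (119, 48), (36, 49), (32, 50), (89, 51), (30, 52), (124, 53), (39, 54), (26, 55),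
   (111, 56), (94, 57), (51, 58), (13, 59), (14, 60), (113, 61), (54, 62), (122, 63), (40, 64), (117, 65),
   (22, 66), (112, 67), (62, 68), (120, 69), (7, 70), (15, 71), (48, 72), (33, 73), (123, 74), (23, 75),
   (100, 76), (47, 77), (50, 78), (35, 79), (31, 80), (70, 81), (24, 82), (4, 83), (38, 84), (81, 85),
   (9, 86), (63, 87), (86, 88), (37, 89), (57, 90), (21, 91), (109, 92), (116, 93), (6, 94), (69, 95),
   (65, 96), (45, 97), (88, 98), (121, 99), (68, 100), (102, 101), (46, 102), (34, 103), (72, 104), (77, 105),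
   (12, 106), (114, 107), (1, 108), (71, 109), (91, 110), (42, 111), (78, 112), (2, 113), (41, 114), (17, 115),
   (60, 116), (110, 117), (79, 118), (28, 119), (98, 120), (3, 121), (25, 122), (10, 123), (58, 124), (80, 125),
   (66, 126), (29, 127), (93, 128), (105, 129), (55, 130), (92, 131), (18, 132), (84, 133), (49, 134), (43, 135),
   (90, 136), (97, 137), (75, 138), (96, 139), (87, 140), (5, 141), (56, 142), (11, 143), (64, 144), (59, 145),
   (8, 146), (108, 147), (104, 148), (61, 149), (76, 150), (115, 151)]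

/-- orbit of level 1 -/
def pts1 : List (ℕ × ℕ) :=
  [(1, 0), (98, 152), (8, 153), (17, 154), (124, 155), (21, 156), (102, 157), (48, 158), (112, 159), (9, 160),
   (59, 161), (125, 162), (20, 163), (89, 164), (75, 165), (108, 166), (121, 167), (111, 168), (47, 169), (107, 170),
   (40, 171), (12, 172), (39, 173), (101, 174), (74, 175), (13, 176), (30, 177), (88, 178), (16, 179), (31, 180),
   (58, 181), (29, 182), (38, 183), (55, 184), (56, 185), (5, 186), (57, 187), (51, 188), (4, 189), (96, 190),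
   (81, 191), (97, 192), (52, 193), (76, 194), (22, 195)]

/-- orbit of level 2 -/
def pts2 : List (ℕ × ℕ) :=
  [(22, 0), (31, 196), (98, 197), (40, 198), (59, 199), (57, 200), (58, 201), (121, 202), (108, 203), (107, 204),
   (76, 205), (81, 206)]

/-- orbit of level 3 -/
def pts3 : List (ℕ × ℕ) :=
  [(57, 0), (121, 207), (98, 208)]

/-- orbit of level 4 -/
def pts4 : List (ℕ × ℕ) :=
  [(2, 0), (123, 209), (94, 210), (95, 211), (18, 212), (19, 213), (3, 214), (122, 215)]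

/-- orbit of level 5 -/
def pts5 : List (ℕ × ℕ) :=
  [(4, 0), (5, 216)]

/-- Schreier generators of level 0 -/
def schA0 : List (ℕ × ℕ × ℕ × List ℕ) :=
  [(0, 0, 0, []), (1, 0, 0, []), (0, 99, 0, []), (1, 99, 0, []),
   (0, 118, 0, []), (1, 118, 0, []), (0, 67, 0, []), (1, 67, 0, []),
   (0, 53, 0, []), (1, 53, 0, []), (0, 19, 0, []), (1, 19, 0, []),
   (0, 52, 0, []), (1, 52, 0, []), (0, 95, 0, []), (1, 95, 0, []),
   (0, 82, 0, []), (1, 82, 0, []), (0, 103, 1, [179, 202, 207, 213, 215]), (1, 103, 0, []),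
   (0, 73, 1, [155, 200, 206, 209]), (1, 73, 0, []), (0, 107, 0, []), (1, 107, 0, []),
   (0, 106, 0, []), (1, 106, 1, [202, 207, 210, 215]), (0, 125, 0, [186, 200]), (1, 125, 0, []),
   (0, 44, 0, []), (1, 44, 2, []), (0, 27, 0, []), (1, 27, 0, []),
   (0, 16, 0, []), (1, 16, 0, []), (0, 85, 0, []), (1, 85, 0, []),
   (0, 20, 0, []), (1, 20, 0, []), (0, 74, 0, []), (1, 74, 2, []),
   (0, 101, 0, []), (1, 101, 0, []), (0, 83, 0, []), (1, 83, 0, []),
   (0, 119, 0, []), (1, 119, 2, [163, 196, 207, 214, 215]), (0, 36, 2, [168, 205, 209, 215]), (1, 36, 0, []),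
   (0, 32, 0, []), (1, 32, 0, []), (0, 89, 0, []), (1, 89, 0, []),
   (0, 30, 0, []), (1, 30, 0, []), (0, 124, 0, []), (1, 124, 0, []),
   (0, 39, 1, [196, 206, 208]), (1, 39, 0, []), (0, 26, 0, []), (1, 26, 0, []),
   (0, 111, 0, [177, 203, 206, 214, 215]), (1, 111, 2, []), (0, 94, 0, []), (1, 94, 0, []),
   (0, 51, 2, [174, 202, 207, 210, 215]), (1, 51, 0, []), (0, 13, 0, []), (1, 13, 0, []),
   (0, 14, 0, []), (1, 14, 0, [169, 195, 207, 211, 215]), (0, 113, 0, []), (1, 113, 2, [184, 203, 207, 213, 215]),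
   (0, 54, 0, []), (1, 54, 0, []), (0, 122, 0, []), (1, 122, 0, []),
   (0, 40, 0, []), (1, 40, 0, [193, 198, 207, 210, 215]), (0, 117, 0, [192, 201, 206, 211]), (1, 117, 0, []),
   (0, 22, 0, []), (1, 22, 0, []), (0, 112, 0, []), (1, 112, 1, [193, 196, 206, 210]),
   (0, 62, 1, [193, 201, 207, 215]), (1, 62, 2, [194, 196, 206, 213]), (0, 120, 0, []), (1, 120, 0, []),
   (0, 7, 2, [165, 200, 210, 215]), (1, 7, 2, []), (0, 15, 0, []), (1, 15, 0, []),
   (0, 48, 0, [192, 204, 206, 209]), (1, 48, 0, []), (0, 33, 0, [186, 200, 206, 209]), (1, 33, 0, []),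
   (0, 123, 1, [152, 197, 207, 210, 215]), (1, 123, 0, [174, 203, 211]), (0, 23, 0, []), (1, 23, 1, [159, 196, 206, 215]),
   (0, 100, 0, []), (1, 100, 2, [160, 202]), (0, 47, 1, [171, 199, 207, 211, 215]), (1, 47, 0, []),
   (0, 50, 0, []), (1, 50, 2, []), (0, 35, 2, [189, 214]), (1, 35, 1, [179, 195, 206, 211, 215]),
   (0, 31, 0, []), (1, 31, 2, [158, 200, 209]), (0, 70, 0, []), (1, 70, 0, []),
   (0, 24, 0, []), (1, 24, 2, [193, 198, 206, 215]), (0, 4, 1, [170, 195, 210]), (1, 4, 0, []),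
   (0, 38, 0, []), (1, 38, 2, []), (0, 81, 0, []), (1, 81, 1, [166, 204, 207, 208]),
   (0, 9, 0, []), (1, 9, 0, [169, 206, 212]), (0, 63, 2, [190, 200, 207, 213]), (1, 63, 0, []),
   (0, 86, 0, []), (1, 86, 0, []), (0, 37, 0, []), (1, 37, 0, []),
   (0, 57, 0, [169, 196, 209, 215]), (1, 57, 0, []), (0, 21, 0, []), (1, 21, 0, []),
   (0, 109, 0, [155, 203, 207, 211, 215]), (1, 109, 1, [191, 206, 215]), (0, 116, 0, []), (1, 116, 0, [170, 196, 207, 209]),
   (0, 6, 0, []), (1, 6, 1, [178, 195, 207, 208, 215]), (0, 69, 0, []), (1, 69, 0, []),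
   (0, 65, 0, []), (1, 65, 2, []), (0, 45, 2, [156, 203, 207, 212, 215]), (1, 45, 0, []),
   (0, 88, 0, []), (1, 88, 2, [151, 204, 206, 209, 215]), (0, 121, 0, []), (1, 121, 0, []),
   (0, 68, 0, []), (1, 68, 0, []), (0, 102, 2, [185, 205, 207, 213]), (1, 102, 0, []),
   (0, 46, 1, [170, 203, 207, 211, 215]), (1, 46, 0, []), (0, 34, 0, [164, 205, 207, 208]), (1, 34, 2, [190, 205, 207, 214]),
   (0, 72, 0, []), (1, 72, 0, [166, 195, 213, 215]), (0, 77, 0, []), (1, 77, 0, [155, 197, 212]),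
   (0, 12, 0, []), (1, 12, 0, []), (0, 114, 0, []), (1, 114, 1, [170, 203, 207, 214, 215]),
   (0, 1, 0, [180, 198, 207, 214, 215]), (1, 1, 0, []), (0, 71, 0, []), (1, 71, 0, []),
   (0, 91, 0, []), (1, 91, 0, []), (0, 42, 0, []), (1, 42, 0, [188, 203, 207, 212]),
   (0, 78, 1, [172, 204, 206, 215]), (1, 78, 0, []), (0, 2, 2, [155, 195, 206, 214]), (1, 2, 2, []),
   (0, 41, 1, [185, 202, 207, 210]), (1, 41, 0, [179, 203, 213, 215]), (0, 17, 0, []), (1, 17, 0, [152]),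
   (0, 60, 2, [180, 205, 211, 215]), (1, 60, 2, [156, 201, 208, 215]), (0, 110, 0, [193, 198, 206, 215]), (1, 110, 0, []),
   (0, 79, 0, [165, 206, 212]), (1, 79, 2, []), (0, 28, 0, [165, 198, 214]), (1, 28, 1, [189, 204, 206, 209, 215]),
   (0, 98, 0, []), (1, 98, 0, []), (0, 3, 2, [193, 199, 206, 215]), (1, 3, 0, []),
   (0, 25, 0, []), (1, 25, 2, []), (0, 10, 1, [166, 199, 210, 215]), (1, 10, 1, [178, 205, 207, 214]),
   (0, 58, 0, []), (1, 58, 1, [154, 195, 206, 209, 215]), (0, 80, 0, [156, 204, 211]), (1, 80, 1, [155, 202, 206]),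
   (0, 66, 0, []), (1, 66, 1, [169, 196, 210, 215]), (0, 29, 2, [169, 206, 212]), (1, 29, 2, [153, 200, 211]),
   (0, 93, 0, [151]), (1, 93, 2, [164, 201, 208]), (0, 105, 0, []), (1, 105, 0, [185, 205, 207, 211, 215]),
   (0, 55, 0, [180, 195, 207]), (1, 55, 1, [193, 205, 206, 208, 215]), (0, 92, 0, []), (1, 92, 0, []),
   (0, 18, 1, [157, 202, 214]), (1, 18, 2, [179, 205, 206, 209, 215]), (0, 84, 1, [193, 202, 207, 212]), (1, 84, 0, [192, 195, 206, 212]),
   (0, 49, 2, [151, 195, 207, 208]), (1, 49, 0, [176, 198, 207]), (0, 43, 1, [177, 203, 207, 214, 215]), (1, 43, 2, []),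
   (0, 90, 0, []), (1, 90, 2, [160, 199, 207, 210]), (0, 97, 2, [168, 203, 208, 215]), (1, 97, 2, [186, 195, 207, 209]),
   (0, 75, 2, [182, 202, 207, 209, 215]), (1, 75, 0, [176, 204, 207, 208]), (0, 96, 0, [157, 205, 206, 215]), (1, 96, 0, [161, 203, 208, 215]),
   (0, 87, 1, [154, 201, 211]), (1, 87, 0, []), (0, 5, 2, [170, 199, 206]), (1, 5, 0, [161, 204, 206, 208, 215]),
   (0, 56, 1, [164, 201, 214]), (1, 56, 0, [188, 205, 208, 215]), (0, 11, 2, [165, 200, 206, 212, 215]), (1, 11, 0, []),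
   (0, 64, 1, [168, 198, 206, 211, 215]), (1, 64, 2, [194, 197, 213, 215]), (0, 59, 0, [204, 213, 215]), (1, 59, 1, [168, 199, 211, 215]),
   (0, 8, 0, [166, 197, 213, 215]), (1, 8, 1, [152, 197, 206]), (0, 108, 1, [178, 195, 207, 208, 215]), (1, 108, 1, [168, 205, 209, 215]),
   (0, 104, 0, [176, 201, 209]), (1, 104, 2, []), (0, 61, 0, [177, 204, 206, 210, 215]), (1, 61, 2, [153, 200, 206, 214]),
   (0, 76, 1, [176, 205, 206, 209, 215]), (1, 76, 0, []), (0, 115, 0, [170, 200, 207, 209, 215]), (1, 115, 0, [172, 195, 206, 208])]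

/-- Schreier generators of level 1 -/
def schA1 : List (ℕ × ℕ × ℕ × List ℕ) :=
  [(2, 1, 0, []), (3, 1, 0, []), (2, 98, 0, []), (3, 98, 0, []),
   (2, 8, 0, []), (3, 8, 0, []), (2, 17, 0, []), (3, 17, 2, [206, 210, 215]),
   (2, 124, 0, []), (3, 124, 0, []), (2, 21, 0, []), (3, 21, 0, []),
   (2, 102, 0, []), (3, 102, 0, [204, 206, 208, 215]), (2, 48, 0, [200, 213, 215]), (3, 48, 0, []),
   (2, 112, 0, []), (3, 112, 2, [205, 206, 208]), (2, 9, 2, [205, 206, 208]), (3, 9, 0, []),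
   (2, 59, 0, []), (3, 59, 0, []), (2, 125, 0, []), (3, 125, 2, [200, 215]),
   (2, 20, 0, []), (3, 20, 0, [205, 206, 212]), (2, 89, 0, []), (3, 89, 0, []),
   (2, 75, 0, []), (3, 75, 2, [204, 206, 212, 215]), (2, 108, 1, [205, 214, 215]), (3, 108, 0, [206, 212, 215]),
   (2, 121, 0, []), (3, 121, 0, []), (2, 111, 0, []), (3, 111, 0, []),
   (2, 47, 0, []), (3, 47, 2, [207, 214, 215]), (2, 107, 2, [205, 206, 214]), (3, 107, 0, [198, 206, 209]),
   (2, 40, 0, []), (3, 40, 0, []), (2, 12, 0, []), (3, 12, 0, []),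
   (2, 39, 1, [204, 206, 214, 215]), (3, 39, 2, [204, 206, 208]), (2, 101, 2, [200, 213, 215]), (3, 101, 0, []),
   (2, 74, 0, []), (3, 74, 0, []), (2, 13, 0, [199, 206, 214]), (3, 13, 2, [204, 213, 215]),
   (2, 30, 2, [207, 208, 215]), (3, 30, 0, []), (2, 88, 0, [196, 211, 215]), (3, 88, 1, [205, 206, 213]),
   (2, 16, 2, [200, 206, 214, 215]), (3, 16, 0, []), (2, 31, 0, [199, 206, 214]), (3, 31, 2, [201, 207, 211]),
   (2, 58, 0, []), (3, 58, 1, [204, 209]), (2, 29, 1, [204, 209]), (3, 29, 0, [207, 212, 215]),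
   (2, 38, 0, [207, 212, 215]), (3, 38, 0, [198, 206, 213]), (2, 55, 2, [198, 206, 210, 215]), (3, 55, 0, []),
   (2, 56, 0, []), (3, 56, 1, [196, 206, 213]), (2, 5, 0, [196, 212, 215]), (3, 5, 0, [195]),
   (2, 57, 0, [197, 206, 210, 215]), (3, 57, 2, [195, 206, 212, 215]), (2, 51, 0, []), (3, 51, 0, []),
   (2, 4, 2, [198, 206]), (3, 4, 0, [203, 209, 215]), (2, 96, 1, [195, 207, 209]), (3, 96, 1, [201, 212]),
   (2, 81, 1, [204, 207, 209]), (3, 81, 0, [196, 207, 210, 215]), (2, 97, 0, [196, 207, 210, 215]), (3, 97, 0, []),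
   (2, 52, 0, []), (3, 52, 0, [207, 214, 215]), (2, 76, 0, []), (3, 76, 0, [199, 212]),
   (2, 22, 2, [195, 213, 215]), (3, 22, 2, [196, 206, 209, 215])]

/-- Schreier generators of level 2 -/
def schA2 : List (ℕ × ℕ × ℕ × List ℕ) :=
  [(4, 22, 0, []), (5, 22, 0, [206, 212, 215]), (4, 31, 0, []), (5, 31, 0, []),
   (4, 98, 0, []), (5, 98, 0, []), (4, 40, 0, []), (5, 40, 0, [207, 211, 215]),
   (4, 59, 0, []), (5, 59, 0, [207, 212]), (4, 57, 0, []), (5, 57, 0, [206]),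
   (4, 58, 0, []), (5, 58, 0, []), (4, 121, 0, [206, 212, 215]), (5, 121, 0, [207]),
   (4, 108, 0, [206, 208, 215]), (5, 108, 0, [206, 210]), (4, 107, 0, [208]), (5, 107, 0, [207, 209]),
   (4, 76, 0, [207, 214, 215]), (5, 76, 0, []), (4, 81, 0, [207, 211]), (5, 81, 0, [206, 214, 215])]

/-- Schreier generators of level 3 -/
def schA3 : List (ℕ × ℕ × ℕ × List ℕ) :=
  [(6, 57, 0, []), (7, 57, 0, []), (6, 121, 0, [210]), (7, 121, 0, [208]),
   (6, 98, 0, [209]), (7, 98, 0, [209, 215])]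

/-- Schreier generators of level 4 -/
def schA4 : List (ℕ × ℕ × ℕ × List ℕ) :=
  [(8, 2, 0, []), (9, 2, 0, []), (10, 2, 0, [215]), (11, 2, 0, []),
   (8, 123, 0, []), (9, 123, 0, []), (10, 123, 0, [215]), (11, 123, 0, []),
   (8, 94, 0, []), (9, 94, 0, []), (10, 94, 0, [215]), (11, 94, 0, []),
   (8, 95, 0, []), (9, 95, 0, []), (10, 95, 0, [215]), (11, 95, 0, []),
   (8, 18, 0, []), (9, 18, 0, []), (10, 18, 0, [215]), (11, 18, 0, []),
   (8, 19, 0, []), (9, 19, 0, []), (10, 19, 0, [215]), (11, 19, 0, []),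
   (8, 3, 0, []), (9, 3, 0, []), (10, 3, 0, [215]), (11, 3, 0, []),
   (8, 122, 0, []), (9, 122, 0, []), (10, 122, 0, [215]), (11, 122, 0, [])]

/-- Schreier generators of level 5 -/
def schA5 : List (ℕ × ℕ × ℕ × List ℕ) :=
  [(12, 4, 0, []), (12, 5, 0, [])]

/-- Schreier generators of level 0 -/
def schB0 : List (ℕ × ℕ × ℕ × List ℕ) :=
  [(0, 0, 0, []), (1, 0, 0, []), (0, 99, 0, []), (1, 99, 0, []),
   (0, 118, 0, []), (1, 118, 0, []), (0, 67, 0, []), (1, 67, 0, []),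
   (0, 53, 0, []), (1, 53, 0, []), (0, 19, 0, []), (1, 19, 0, []),
   (0, 52, 0, []), (1, 52, 0, []), (0, 95, 0, []), (1, 95, 0, []),
   (0, 82, 0, []), (1, 82, 0, []), (0, 103, 2, [179, 202, 207, 213, 215]), (1, 103, 0, []),
   (0, 73, 2, [155, 200, 206, 209]), (1, 73, 0, []), (0, 107, 0, []), (1, 107, 0, []),
   (0, 106, 0, []), (1, 106, 0, [202, 207, 210, 215]), (0, 125, 1, [186, 200]), (1, 125, 0, []),
   (0, 44, 0, []), (1, 44, 1, []), (0, 27, 0, []), (1, 27, 0, []),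
   (0, 16, 0, []), (1, 16, 0, []), (0, 85, 0, []), (1, 85, 0, []),
   (0, 20, 0, []), (1, 20, 0, []), (0, 74, 0, []), (1, 74, 1, []),
   (0, 101, 0, []), (1, 101, 0, []), (0, 83, 0, []), (1, 83, 0, []),
   (0, 119, 0, []), (1, 119, 0, [163, 196, 207, 214, 215]), (0, 36, 2, [168, 205, 209, 215]), (1, 36, 0, []),
   (0, 32, 0, []), (1, 32, 0, []), (0, 89, 0, []), (1, 89, 0, []),
   (0, 30, 0, []), (1, 30, 0, []), (0, 124, 0, []), (1, 124, 0, []),
   (0, 39, 1, [196, 206, 208]), (1, 39, 0, []), (0, 26, 0, []), (1, 26, 0, []),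
   (0, 111, 1, [177, 203, 206, 214, 215]), (1, 111, 1, []), (0, 94, 0, []), (1, 94, 0, []),
   (0, 51, 0, [174, 202, 207, 210, 215]), (1, 51, 0, []), (0, 13, 0, []), (1, 13, 0, []),
   (0, 14, 0, []), (1, 14, 2, [169, 195, 207, 211, 215]), (0, 113, 0, []), (1, 113, 2, [184, 203, 207, 213, 215]),
   (0, 54, 0, []), (1, 54, 0, []), (0, 122, 0, []), (1, 122, 0, []),
   (0, 40, 0, []), (1, 40, 0, [193, 198, 207, 210, 215]), (0, 117, 1, [192, 201, 206, 211]), (1, 117, 0, []),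
   (0, 22, 0, []), (1, 22, 0, []), (0, 112, 0, []), (1, 112, 1, [193, 196, 206, 210]),
   (0, 62, 0, [193, 201, 207, 215]), (1, 62, 1, [194, 196, 206, 213]), (0, 120, 0, []), (1, 120, 0, []),
   (0, 7, 2, [165, 200, 210, 215]), (1, 7, 1, []), (0, 15, 0, []), (1, 15, 0, []),
   (0, 48, 2, [192, 204, 206, 209]), (1, 48, 0, []), (0, 33, 2, [186, 200, 206, 209]), (1, 33, 0, []),
   (0, 123, 0, [152, 197, 207, 210, 215]), (1, 123, 1, [174, 203, 211]), (0, 23, 0, []), (1, 23, 2, [159, 196, 206, 215]),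
   (0, 100, 0, []), (1, 100, 0, [160, 202]), (0, 47, 1, [171, 199, 207, 211, 215]), (1, 47, 0, []),
   (0, 50, 0, []), (1, 50, 1, []), (0, 35, 2, [189, 214]), (1, 35, 2, [179, 195, 206, 211, 215]),
   (0, 31, 0, []), (1, 31, 2, [158, 200, 209]), (0, 70, 0, []), (1, 70, 0, []),
   (0, 24, 0, []), (1, 24, 1, [193, 198, 206, 215]), (0, 4, 0, [170, 195, 210]), (1, 4, 0, []),
   (0, 38, 0, []), (1, 38, 1, []), (0, 81, 0, []), (1, 81, 2, [166, 204, 207, 208]),
   (0, 9, 0, []), (1, 9, 1, [169, 206, 212]), (0, 63, 2, [190, 200, 207, 213]), (1, 63, 0, []),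
   (0, 86, 0, []), (1, 86, 0, []), (0, 37, 0, []), (1, 37, 0, []),
   (0, 57, 1, [169, 196, 209, 215]), (1, 57, 0, []), (0, 21, 0, []), (1, 21, 0, []),
   (0, 109, 1, [155, 203, 207, 211, 215]), (1, 109, 0, [191, 206, 215]), (0, 116, 0, []), (1, 116, 2, [170, 196, 207, 209]),
   (0, 6, 0, []), (1, 6, 1, [178, 195, 207, 208, 215]), (0, 69, 0, []), (1, 69, 0, []),
   (0, 65, 0, []), (1, 65, 1, []), (0, 45, 2, [156, 203, 207, 212, 215]), (1, 45, 0, []),
   (0, 88, 0, []), (1, 88, 1, [151, 204, 206, 209, 215]), (0, 121, 0, []), (1, 121, 0, []),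
   (0, 68, 0, []), (1, 68, 0, []), (0, 102, 0, [185, 205, 207, 213]), (1, 102, 0, []),
   (0, 46, 2, [170, 203, 207, 211, 215]), (1, 46, 0, []), (0, 34, 2, [164, 205, 207, 208]), (1, 34, 0, [190, 205, 207, 214]),
   (0, 72, 0, []), (1, 72, 2, [166, 195, 213, 215]), (0, 77, 0, []), (1, 77, 2, [155, 197, 212]),
   (0, 12, 0, []), (1, 12, 0, []), (0, 114, 0, []), (1, 114, 0, [170, 203, 207, 214, 215]),
   (0, 1, 0, [180, 198, 207, 214, 215]), (1, 1, 0, []), (0, 71, 0, []), (1, 71, 0, []),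
   (0, 91, 0, []), (1, 91, 0, []), (0, 42, 0, []), (1, 42, 2, [188, 203, 207, 212]),
   (0, 78, 2, [172, 204, 206, 215]), (1, 78, 0, []), (0, 2, 1, [155, 195, 206, 214]), (1, 2, 1, []),
   (0, 41, 0, [185, 202, 207, 210]), (1, 41, 0, [179, 203, 213, 215]), (0, 17, 0, []), (1, 17, 0, [152]),
   (0, 60, 1, [180, 205, 211, 215]), (1, 60, 1, [156, 201, 208, 215]), (0, 110, 0, [193, 198, 206, 215]), (1, 110, 0, []),
   (0, 79, 0, [165, 206, 212]), (1, 79, 1, []), (0, 28, 2, [165, 198, 214]), (1, 28, 2, [189, 204, 206, 209, 215]),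
   (0, 98, 0, []), (1, 98, 0, []), (0, 3, 0, [193, 199, 206, 215]), (1, 3, 0, []),
   (0, 25, 0, []), (1, 25, 1, []), (0, 10, 2, [166, 199, 210, 215]), (1, 10, 0, [178, 205, 207, 214]),
   (0, 58, 0, []), (1, 58, 0, [154, 195, 206, 209, 215]), (0, 80, 1, [156, 204, 211]), (1, 80, 0, [155, 202, 206]),
   (0, 66, 0, []), (1, 66, 2, [169, 196, 210, 215]), (0, 29, 2, [169, 206, 212]), (1, 29, 0, [153, 200, 211]),
   (0, 93, 0, [151]), (1, 93, 1, [164, 201, 208]), (0, 105, 0, []), (1, 105, 2, [185, 205, 207, 211, 215]),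
   (0, 55, 2, [180, 195, 207]), (1, 55, 1, [193, 205, 206, 208, 215]), (0, 92, 0, []), (1, 92, 0, []),
   (0, 18, 0, [157, 202, 214]), (1, 18, 1, [179, 205, 206, 209, 215]), (0, 84, 1, [193, 202, 207, 212]), (1, 84, 2, [192, 195, 206, 212]),
   (0, 49, 2, [151, 195, 207, 208]), (1, 49, 1, [176, 198, 207]), (0, 43, 2, [177, 203, 207, 214, 215]), (1, 43, 1, []),
   (0, 90, 0, []), (1, 90, 1, [160, 199, 207, 210]), (0, 97, 1, [168, 203, 208, 215]), (1, 97, 2, [186, 195, 207, 209]),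
   (0, 75, 2, [182, 202, 207, 209, 215]), (1, 75, 1, [176, 204, 207, 208]), (0, 96, 2, [157, 205, 206, 215]), (1, 96, 0, [161, 203, 208, 215]),
   (0, 87, 2, [154, 201, 211]), (1, 87, 0, []), (0, 5, 0, [170, 199, 206]), (1, 5, 0, [161, 204, 206, 208, 215]),
   (0, 56, 1, [164, 201, 214]), (1, 56, 0, [188, 205, 208, 215]), (0, 11, 1, [165, 200, 206, 212, 215]), (1, 11, 0, []),
   (0, 64, 1, [168, 198, 206, 211, 215]), (1, 64, 1, [194, 197, 213, 215]), (0, 59, 1, [204, 213, 215]), (1, 59, 2, [168, 199, 211, 215]),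
   (0, 8, 1, [166, 197, 213, 215]), (1, 8, 2, [152, 197, 206]), (0, 108, 1, [178, 195, 207, 208, 215]), (1, 108, 2, [168, 205, 209, 215]),
   (0, 104, 2, [176, 201, 209]), (1, 104, 1, []), (0, 61, 1, [177, 204, 206, 210, 215]), (1, 61, 1, [153, 200, 206, 214]),
   (0, 76, 2, [176, 205, 206, 209, 215]), (1, 76, 0, []), (0, 115, 2, [170, 200, 207, 209, 215]), (1, 115, 0, [172, 195, 206, 208])]

/-- Schreier generators of level 1 -/
def schB1 : List (ℕ × ℕ × ℕ × List ℕ) :=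
  [(2, 1, 0, []), (3, 1, 0, []), (2, 98, 0, []), (3, 98, 0, []),
   (2, 8, 0, []), (3, 8, 0, []), (2, 17, 0, []), (3, 17, 0, [206, 210, 215]),
   (2, 124, 0, []), (3, 124, 0, []), (2, 21, 0, []), (3, 21, 0, []),
   (2, 102, 0, []), (3, 102, 0, [204, 206, 208, 215]), (2, 48, 0, [200, 213, 215]), (3, 48, 0, []),
   (2, 112, 0, []), (3, 112, 1, [205, 206, 208]), (2, 9, 1, [205, 206, 208]), (3, 9, 0, []),
   (2, 59, 0, []), (3, 59, 0, []), (2, 125, 0, []), (3, 125, 2, [200, 215]),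
   (2, 20, 0, []), (3, 20, 1, [205, 206, 212]), (2, 89, 0, []), (3, 89, 0, []),
   (2, 75, 0, []), (3, 75, 0, [204, 206, 212, 215]), (2, 108, 0, [205, 214, 215]), (3, 108, 2, [206, 212, 215]),
   (2, 121, 0, []), (3, 121, 0, []), (2, 111, 0, []), (3, 111, 0, []),
   (2, 47, 0, []), (3, 47, 2, [207, 214, 215]), (2, 107, 0, [205, 206, 214]), (3, 107, 1, [198, 206, 209]),
   (2, 40, 0, []), (3, 40, 0, []), (2, 12, 0, []), (3, 12, 0, []),
   (2, 39, 2, [204, 206, 214, 215]), (3, 39, 0, [204, 206, 208]), (2, 101, 2, [200, 213, 215]), (3, 101, 0, []),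
   (2, 74, 0, []), (3, 74, 0, []), (2, 13, 0, [199, 206, 214]), (3, 13, 1, [204, 213, 215]),
   (2, 30, 1, [207, 208, 215]), (3, 30, 0, []), (2, 88, 2, [196, 211, 215]), (3, 88, 2, [205, 206, 213]),
   (2, 16, 2, [200, 206, 214, 215]), (3, 16, 0, []), (2, 31, 0, [199, 206, 214]), (3, 31, 0, [201, 207, 211]),
   (2, 58, 0, []), (3, 58, 0, [204, 209]), (2, 29, 0, [204, 209]), (3, 29, 1, [207, 212, 215]),
   (2, 38, 2, [207, 212, 215]), (3, 38, 2, [198, 206, 213]), (2, 55, 1, [198, 206, 210, 215]), (3, 55, 0, []),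
   (2, 56, 0, []), (3, 56, 1, [196, 206, 213]), (2, 5, 2, [196, 212, 215]), (3, 5, 0, [195]),
   (2, 57, 2, [197, 206, 210, 215]), (3, 57, 0, [195, 206, 212, 215]), (2, 51, 0, []), (3, 51, 0, []),
   (2, 4, 0, [198, 206]), (3, 4, 2, [203, 209, 215]), (2, 96, 0, [195, 207, 209]), (3, 96, 0, [201, 212]),
   (2, 81, 2, [204, 207, 209]), (3, 81, 1, [196, 207, 210, 215]), (2, 97, 1, [196, 207, 210, 215]), (3, 97, 0, []),
   (2, 52, 0, []), (3, 52, 2, [207, 214, 215]), (2, 76, 0, []), (3, 76, 2, [199, 212]),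
   (2, 22, 2, [195, 213, 215]), (3, 22, 2, [196, 206, 209, 215])]

/-- Schreier generators of level 2 -/
def schB2 : List (ℕ × ℕ × ℕ × List ℕ) :=
  [(4, 22, 0, []), (5, 22, 2, [206, 212, 215]), (4, 31, 0, []), (5, 31, 0, []),
   (4, 98, 0, []), (5, 98, 0, []), (4, 40, 0, []), (5, 40, 1, [207, 211, 215]),
   (4, 59, 0, []), (5, 59, 2, [207, 212]), (4, 57, 0, []), (5, 57, 0, [206]),
   (4, 58, 0, []), (5, 58, 0, []), (4, 121, 2, [206, 212, 215]), (5, 121, 0, [207]),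
   (4, 108, 1, [206, 208, 215]), (5, 108, 2, [206, 210]), (4, 107, 0, [208]), (5, 107, 1, [207, 209]),
   (4, 76, 1, [207, 214, 215]), (5, 76, 0, []), (4, 81, 2, [207, 211]), (5, 81, 1, [206, 214, 215])]

/-- Schreier generators of level 3 -/
def schB3 : List (ℕ × ℕ × ℕ × List ℕ) :=
  [(6, 57, 0, []), (7, 57, 0, []), (6, 121, 0, [210]), (7, 121, 0, [208]),
   (6, 98, 0, [209]), (7, 98, 0, [209, 215])]

/-- Schreier generators of level 4 -/
def schB4 : List (ℕ × ℕ × ℕ × List ℕ) :=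
  [(8, 2, 0, []), (9, 2, 0, []), (10, 2, 0, [215]), (11, 2, 0, []),
   (8, 123, 0, []), (9, 123, 0, []), (10, 123, 0, [215]), (11, 123, 0, []),
   (8, 94, 0, []), (9, 94, 0, []), (10, 94, 0, [215]), (11, 94, 0, []),
   (8, 95, 0, []), (9, 95, 0, []), (10, 95, 0, [215]), (11, 95, 0, []),
   (8, 18, 0, []), (9, 18, 0, []), (10, 18, 0, [215]), (11, 18, 0, []),
   (8, 19, 0, []), (9, 19, 0, []), (10, 19, 0, [215]), (11, 19, 0, []),
   (8, 3, 0, []), (9, 3, 0, []), (10, 3, 0, [215]), (11, 3, 0, []),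
   (8, 122, 0, []), (9, 122, 0, []), (10, 122, 0, [215]), (11, 122, 0, [])]

/-- Schreier generators of level 5 -/
def schB5 : List (ℕ × ℕ × ℕ × List ℕ) :=
  [(12, 4, 0, []), (12, 5, 0, [])]

/-- the balanced word of the first cover -/
def wordA : List ℕ :=
  [1, 0, 1, 1, 0, 14, 13, 14, 14, 13, 1, 0, 1, 1, 0, 14, 13, 14, 14, 13]

/-- the balanced word of the second cover -/
def wordB : List ℕ :=
  [1, 14, 13, 14, 0, 0, 14, 13, 13, 1, 0, 1, 1, 14, 13, 14, 0, 0, 14, 13, 13, 1, 0, 1, 1, 14, 13, 14, 0, 0, 14, 13, 13, 1, 0, 1, 1, 14, 13, 14, 0, 0, 14, 13, 13, 1, 0, 1]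

/-- the chain -/
noncomputable def coverA : CfsgLib.Schur.MonoCover.Data where
  m := 126
  c := 3
  ng := 13
  nU := 190
  tab := elTabA
  defs n := elDef.getD n (0, 0)
  nlev := 6
  base k := [0, 1, 22, 57, 2, 4].getD k 0
  gens k := [[0, 1], [2, 3], [4, 5], [6, 7], [8, 9, 10, 11], [12]].getD k []
  pts k := [pts0, pts1, pts2, pts3, pts4, pts5].getD k []
  sch k := [schA0, schA1, schA2, schA3, schA4, schA5].getD k []
  pick k := [[(2, 0, 93, 0), (3, 1, 17, 0)], [(4, 3, 5, 0), (5, 3, 108, 0)], [(6, 5, 57, 0), (7, 5, 121, 0)], [(8, 7, 121, 0), (9, 6, 98, 0), (10, 7, 98, 0), (11, 6, 121, 0)], [(12, 10, 2, 0)], []].getD k []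

/-- the chain -/
noncomputable def coverB : CfsgLib.Schur.MonoCover.Data where
  m := 126
  c := 3
  ng := 13
  nU := 190
  tab := elTabB
  defs n := elDef.getD n (0, 0)
  nlev := 6
  base k := [0, 1, 22, 57, 2, 4].getD k 0
  gens k := [[0, 1], [2, 3], [4, 5], [6, 7], [8, 9, 10, 11], [12]].getD k []
  pts k := [pts0, pts1, pts2, pts3, pts4, pts5].getD k []
  sch k := [schB0, schB1, schB2, schB3, schB4, schB5].getD k []
  pick k := [[(2, 0, 93, 0), (3, 1, 17, 0)], [(4, 3, 5, 0), (5, 3, 108, 0)], [(6, 5, 57, 0), (7, 5, 121, 0)], [(8, 7, 121, 0), (9, 6, 98, 0), (10, 7, 98, 0), (11, 6, 121, 0)], [(12, 10, 2, 0)], []].getD k []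

end CfsgLib.UFour
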