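import Mathlib

/-!
Points and generators of the orthogonal model (generated).
-/

set_option autoImplicit false
set_option maxRecDepth 100000

namespace CfsgLib.UFour

/-- the points -/
def pointList : List (List ℕ) :=
  [[0, 0, 0, 0, 0, 1], [0, 0, 0, 0, 1, 0], [0, 0, 0, 1, 0, 1], [0, 0, 0, 1, 0, 2],
   [0, 0, 0, 1, 1, 0], [0, 0, 0, 1, 2, 0], [0, 0, 1, 0, 0, 1], [0, 0, 1, 0, 0, 2],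
   [0, 0, 1, 0, 1, 0], [0, 0, 1, 0, 2, 0], [0, 0, 1, 1, 0, 1], [0, 0, 1, 1, 0, 2],
   [0, 0, 1, 1, 1, 0], [0, 0, 1, 1, 2, 0], [0, 0, 1, 2, 0, 1], [0, 0, 1, 2, 0, 2],
   [0, 0, 1, 2, 1, 0], [0, 0, 1, 2, 2, 0], [0, 1, 0, 0, 0, 1], [0, 1, 0, 0, 0, 2],
   [0, 1, 0, 0, 1, 0], [0, 1, 0, 0, 2, 0], [0, 1, 0, 1, 0, 0], [0, 1, 0, 2, 1, 1],
   [0, 1, 0, 2, 1, 2], [0, 1, 0, 2, 2, 1], [0, 1, 0, 2, 2, 2], [0, 1, 1, 0, 0, 1],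
   [0, 1, 1, 0, 0, 2], [0, 1, 1, 0, 1, 0], [0, 1, 1, 0, 2, 0], [0, 1, 1, 1, 0, 0],
   [0, 1, 1, 2, 1, 1], [0, 1, 1, 2, 1, 2], [0, 1, 1, 2, 2, 1], [0, 1, 1, 2, 2, 2],
   [0, 1, 2, 0, 0, 1], [0, 1, 2, 0, 0, 2], [0, 1, 2, 0, 1, 0], [0, 1, 2, 0, 2, 0],
   [0, 1, 2, 1, 0, 0], [0, 1, 2, 2, 1, 1], [0, 1, 2, 2, 1, 2], [0, 1, 2, 2, 2, 1],
   [0, 1, 2, 2, 2, 2], [1, 0, 0, 0, 0, 1], [1, 0, 0, 0, 0, 2], [1, 0, 0, 0, 1, 0],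
   [1, 0, 0, 0, 2, 0], [1, 0, 0, 1, 0, 1], [1, 0, 0, 1, 0, 2], [1, 0, 0, 1, 1, 0],
   [1, 0, 0, 1, 2, 0], [1, 0, 0, 2, 0, 1], [1, 0, 0, 2, 0, 2], [1, 0, 0, 2, 1, 0],
   [1, 0, 0, 2, 2, 0], [1, 0, 1, 0, 0, 0], [1, 0, 1, 1, 0, 0], [1, 0, 1, 2, 0, 0],
   [1, 0, 2, 0, 1, 1], [1, 0, 2, 0, 1, 2], [1, 0, 2, 0, 2, 1], [1, 0, 2, 0, 2, 2],
   [1, 0, 2, 1, 1, 1], [1, 0, 2, 1, 1, 2], [1, 0, 2, 1, 2, 1], [1, 0, 2, 1, 2, 2],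
   [1, 0, 2, 2, 1, 1], [1, 0, 2, 2, 1, 2], [1, 0, 2, 2, 2, 1], [1, 0, 2, 2, 2, 2],
   [1, 1, 0, 0, 0, 1], [1, 1, 0, 0, 0, 2], [1, 1, 0, 0, 1, 0], [1, 1, 0, 0, 2, 0],
   [1, 1, 0, 1, 0, 0], [1, 1, 0, 2, 1, 1], [1, 1, 0, 2, 1, 2], [1, 1, 0, 2, 2, 1],
   [1, 1, 0, 2, 2, 2], [1, 1, 1, 0, 0, 0], [1, 1, 1, 1, 1, 1], [1, 1, 1, 1, 1, 2],
   [1, 1, 1, 1, 2, 1], [1, 1, 1, 1, 2, 2], [1, 1, 1, 2, 0, 1], [1, 1, 1, 2, 0, 2],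
   [1, 1, 1, 2, 1, 0], [1, 1, 1, 2, 2, 0], [1, 1, 2, 0, 1, 1], [1, 1, 2, 0, 1, 2],
   [1, 1, 2, 0, 2, 1], [1, 1, 2, 0, 2, 2], [1, 1, 2, 1, 0, 1], [1, 1, 2, 1, 0, 2],
   [1, 1, 2, 1, 1, 0], [1, 1, 2, 1, 2, 0], [1, 1, 2, 2, 0, 0], [1, 2, 0, 0, 0, 1],
   [1, 2, 0, 0, 0, 2], [1, 2, 0, 0, 1, 0], [1, 2, 0, 0, 2, 0], [1, 2, 0, 1, 1, 1],
   [1, 2, 0, 1, 1, 2], [1, 2, 0, 1, 2, 1], [1, 2, 0, 1, 2, 2], [1, 2, 0, 2, 0, 0],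
   [1, 2, 1, 0, 0, 0], [1, 2, 1, 1, 0, 1], [1, 2, 1, 1, 0, 2], [1, 2, 1, 1, 1, 0],
   [1, 2, 1, 1, 2, 0], [1, 2, 1, 2, 1, 1], [1, 2, 1, 2, 1, 2], [1, 2, 1, 2, 2, 1],
   [1, 2, 1, 2, 2, 2], [1, 2, 2, 0, 1, 1], [1, 2, 2, 0, 1, 2], [1, 2, 2, 0, 2, 1],
   [1, 2, 2, 0, 2, 2], [1, 2, 2, 1, 0, 0], [1, 2, 2, 2, 0, 1], [1, 2, 2, 2, 0, 2],
   [1, 2, 2, 2, 1, 0], [1, 2, 2, 2, 2, 0]]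

/-- matrices whose commutators are the generators -/
def genPairs : List (List (List ℕ) × List (List ℕ)) :=
  [([[2, 0, 1, 0, 0, 2], [0, 1, 2, 2, 0, 2], [2, 0, 1, 2, 1, 0], [1, 1, 2, 2, 1, 1], [2, 1, 1, 1, 0, 2], [2, 1, 0, 2, 1, 1]], [[1, 2, 1, 0, 2, 1], [2, 2, 0, 1, 0, 1], [0, 2, 0, 1, 0, 1], [2, 0, 2, 2, 2, 1], [2, 2, 0, 0, 0, 2], [1, 2, 0, 1, 1, 1]]),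
   ([[0, 1, 1, 1, 2, 1], [2, 0, 1, 0, 0, 2], [2, 2, 0, 2, 2, 1], [1, 0, 1, 2, 1, 1], [0, 0, 1, 1, 0, 1], [2, 1, 2, 0, 0, 0]], [[0, 1, 2, 2, 0, 2], [1, 0, 1, 0, 1, 1], [0, 1, 0, 1, 2, 1], [0, 0, 1, 0, 0, 0], [0, 1, 1, 0, 0, 1], [0, 1, 1, 2, 2, 2]])]

/-- their inverses -/
def genInvs : List (List (List ℕ) × List (List ℕ)) :=
  [([[1, 2, 1, 2, 2, 0], [2, 2, 0, 2, 2, 1], [2, 1, 2, 0, 1, 1], [0, 1, 0, 1, 2, 2], [2, 2, 0, 0, 0, 1], [0, 2, 1, 1, 2, 1]], [[0, 2, 1, 0, 0, 0], [1, 2, 0, 1, 0, 2], [0, 2, 1, 2, 1, 2], [2, 0, 2, 2, 1, 1], [0, 1, 1, 0, 0, 1], [2, 2, 2, 2, 2, 1]]),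
   ([[0, 1, 1, 1, 2, 1], [2, 2, 1, 0, 2, 0], [2, 1, 0, 2, 0, 1], [2, 0, 1, 0, 0, 2], [1, 2, 1, 0, 0, 0], [2, 2, 2, 1, 1, 0]], [[0, 1, 2, 1, 2, 2], [1, 0, 2, 0, 0, 1], [0, 0, 0, 1, 0, 0], [1, 0, 1, 0, 2, 2], [1, 0, 0, 2, 0, 2], [2, 0, 1, 2, 1, 2]])]

end CfsgLib.UFour
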