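import Cfsg.Prelude.Def_Classical
import Cfsg.Agent.Lib.UFour.CoverData
import Cfsg.Agent.Lib.UFour.MultElts
import Cfsg.Agent.Lib.UFour.Points

/-!
The minus type orthogonal group in dimension six over three elements and its action on 126 points.
-/

set_option autoImplicit false
set_option maxRecDepth 100000

namespace CfsgLib.UFour

open Matrix
open scoped commutatorElement

/-- the coordinates -/
abbrev Ix : Type := (Fin 2 ⊕ Fin 2) ⊕ Fin 2

/-- the field of three elements -/
abbrev F3 : Type := ZMod 3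

/-- the form -/
abbrev q6 : (Ix → F3) → F3 := Cfsg.quadFormMinus 2 F3 0 1

theorem hab : ∀ z₁ z₂ : F3, z₁ ^ 2 + 0 * z₁ * z₂ + 1 * z₂ ^ 2 = 0 → z₁ = 0 ∧ z₂ = 0 := by decide +kernel

/-- position of a coordinate -/
def pos : Ix → ℕ
  | .inl (.inl i) => i
  | .inl (.inr i) => 2 + i
  | .inr i => 4 + i

/-- the matrix of a table -/
def mat (L : List (List ℕ)) : Matrix Ix Ix F3 := fun i j => ((L.getD (pos i) []).getD (pos j) 0 : F3)

/-- the vector of a table -/
def vec (L : List ℕ) : Ix → F3 := fun i => (L.getD (pos i) 0 : F3)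

/-- image of a vector -/
def img (M : Matrix Ix Ix F3) (v : Ix → F3) : Ix → F3 := M *ᵥ v

/-- a point -/
def pt (i : ℕ) : Ix → F3 := vec (pointList.getD i [])

/-- the tables of the two pairs -/
def elemTab : Fin 4 → List (List ℕ) × List (List ℕ)
  | 0 => ((genPairs.getD 0 ([], [])).1, (genInvs.getD 0 ([], [])).1)
  | 1 => ((genPairs.getD 0 ([], [])).2, (genInvs.getD 0 ([], [])).2)
  | 2 => ((genPairs.getD 1 ([], [])).1, (genInvs.getD 1 ([], [])).1)
  | 3 => ((genPairs.getD 1 ([], [])).2, (genInvs.getD 1 ([], [])).2)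

theorem elemTab_inv : ∀ k : Fin 4, mat (elemTab k).1 * mat (elemTab k).2 = 1 ∧
    mat (elemTab k).2 * mat (elemTab k).1 = 1 := by decide +kernel

theorem elemTab_isometry : ∀ k : Fin 4, ∀ v : Ix → F3, q6 (mat (elemTab k).1 *ᵥ v) = q6 v := by
  decide +kernel

/-- the four isometries -/
def iso (k : Fin 4) : Cfsg.isometryGroup F3 q6 :=
  ⟨⟨mat (elemTab k).1, mat (elemTab k).2, (elemTab_inv k).1, (elemTab_inv k).2⟩,
    fun u _ => elemTab_isometry k u⟩

/-- the generators in `Ω` -/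
def Xl : ℕ → Cfsg.Omega F3 q6
  | 0 => ⟨⁅iso 0, iso 1⁆, Subgroup.commutator_mem_commutator (Subgroup.mem_top _) (Subgroup.mem_top _)⟩
  | _ => ⟨⁅iso 2, iso 3⁆, Subgroup.commutator_mem_commutator (Subgroup.mem_top _) (Subgroup.mem_top _)⟩

/-- the generators -/
noncomputable def X (j : ℕ) : Cfsg.POmega F3 q6 := QuotientGroup.mk (Xl j)

/-- the matrix of a generator -/
def genMat : Fin 2 → Matrix Ix Ix F3
  | 0 => mat (elemTab 0).1 * mat (elemTab 1).1 * mat (elemTab 0).2 * mat (elemTab 1).2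
  | 1 => mat (elemTab 2).1 * mat (elemTab 3).1 * mat (elemTab 2).2 * mat (elemTab 3).2

theorem coe_Xl (j : Fin 2) :
    ((((Xl j : Cfsg.Omega F3 q6) : Cfsg.isometryGroup F3 q6) : GL Ix F3) : Matrix Ix Ix F3) = genMat j := by
  fin_cases j <;> rfl

/-- the pair of a vector -/
def pr (v : Ix → F3) : Finset (Ix → F3) := {v, -v}

/-- table of a generator on the points -/
theorem genChk : ∀ j : Fin 2, ∀ i : Fin 126, ∃ h : CfsgLib.Schur.PermTable.ap (uElts.P j) i < 126,
    CfsgLib.Schur.PermTable.ap (uElts.P j) i = coverA.img j i ∧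
      (genMat j *ᵥ pt i = pt (CfsgLib.Schur.PermTable.ap (uElts.P j) i) ∨
        genMat j *ᵥ pt i = -pt (CfsgLib.Schur.PermTable.ap (uElts.P j) i)) := by decide +kernel

theorem imgEq : ∀ j : Fin 2, ∀ i : Fin 126, coverA.img j i = coverB.img j i := by decide +kernel

theorem pt_complete : ∀ v : Ix → F3, q6 v = 1 → ∃ i : Fin 126, v = pt i ∨ v = -pt i := by decide +kernel

theorem pt_q : ∀ i : Fin 126, q6 (pt i) = 1 := by decide +kernel

theorem pt_distinct : ∀ i j : Fin 126, pt i = pt j ∨ pt i = -pt j → i = j := by decide +kernel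

end CfsgLib.UFour
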