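import Cfsg.Agent.Lib.Classical.OrthCenter
import Cfsg.Agent.Lib.Classical.KleinSix
import Cfsg.Agent.Lib.Schur.FamilyAction
import Cfsg.Agent.Lib.UFour.ModelChk

/-!
The action of the minus type orthogonal group in dimension six over three elements on 126 points.
-/

set_option autoImplicit false
set_option maxRecDepth 100000

namespace CfsgLib.UFour

open Matrix CfsgLib.Orth
open scoped commutatorElement

theorem pr_neg (v : Ix → F3) : pr (-v) = pr v := by
  rw [pr, pr, neg_neg, Finset.pair_comm]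

theorem pr_inj {v w : Ix → F3} (h : pr v = pr w) : v = w ∨ v = -w := by
  have : v ∈ pr w := h ▸ by simp [pr]
  simpa [pr] using this

/-- the image of a set of vectors -/
def move (g : Cfsg.isometryGroup F3 q6) (S : Finset (Ix → F3)) : Finset (Ix → F3) :=
  S.image fun v => ((g : GL Ix F3) : Matrix Ix Ix F3) *ᵥ v

theorem move_one (S : Finset (Ix → F3)) : move 1 S = S := by
  simp [move]

theorem move_mul (g h : Cfsg.isometryGroup F3 q6) (S : Finset (Ix → F3)) :
    move (g * h) S = move g (move h S) := by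
  rw [move, move, move, Finset.image_image]
  refine Finset.image_congr fun v _ => ?_
  simp [Function.comp, Matrix.mulVec_mulVec]

theorem move_pr (g : Cfsg.isometryGroup F3 q6) (v : Ix → F3) :
    move g (pr v) = pr (((g : GL Ix F3) : Matrix Ix Ix F3) *ᵥ v) := by
  simp [move, pr, Matrix.mulVec_neg]

theorem center_move {z : Cfsg.Omega F3 q6} (hz : z ∈ Subgroup.center (Cfsg.Omega F3 q6)) (v : Ix → F3) :
    move z (pr v) = pr v := by
  obtain ⟨Q, hQ, hB⟩ := exists_quadForm_minus (F := F3) 2 hab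
  have key : ∀ (f : (Ix → F3) → F3), f = ⇑Q → ∀ z : Cfsg.Omega F3 f, z ∈ Subgroup.center (Cfsg.Omega F3 f) →
      (((z : Cfsg.isometryGroup F3 f) : GL Ix F3) : Matrix Ix Ix F3) = 1 ∨
        (((z : Cfsg.isometryGroup F3 f) : GL Ix F3) : Matrix Ix Ix F3) = -1 := by
    rintro f rfl z hz
    have hn : 5 ≤ Module.finrank F3 (Ix → F3) := by simp
    rcases commute_El_scalar hB hn (x := (z : Grp Q)) fun a ha => congrArg Subtype.val
      (Subgroup.mem_center_iff.1 hz ⟨a, (omega_eq_El hB hn).symm ▸ ha⟩) with h | h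
    · exact Or.inl (by rw [h]; rfl)
    · exact Or.inr h
  rcases key q6 hQ.symm z hz with h | h <;> rw [move_pr, h]
  · rw [Matrix.one_mulVec]
  · rw [Matrix.neg_mulVec, Matrix.one_mulVec, pr_neg]

/-- The action on the points. -/
theorem exists_action : ∃ ρ : Cfsg.POmega F3 q6 →* Equiv.Perm (Fin 126),
    ∀ j : Fin 2, ∀ i : Fin 126, ((ρ (X j) i : Fin 126) : ℕ) = CfsgLib.Schur.PermTable.ap (uElts.P j) i := by
  classical
  have hinj : Function.Injective fun i : Fin 126 => pr (pt i) := fun i j e =>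
    pt_distinct i j (pr_inj e)
  obtain ⟨φ, hφ⟩ := CfsgLib.Schur.exists_familyHom (fun (g : Cfsg.Omega F3 q6) S => move g S)
    (fun i : Fin 126 => pr (pt i)) hinj (fun i => move_one _) (fun g h i => move_mul _ _ _)
    (S := Set.univ) (Subgroup.closure_univ) (fun g _ i => by
      show ∃ j : Fin 126, move g (pr (pt i)) = pr (pt j)
      rw [move_pr]
      obtain ⟨j, hj⟩ := pt_complete (((((g : Cfsg.isometryGroup F3 q6) : GL Ix F3)) : Matrix Ix Ix F3) *ᵥ pt i)
        (((g : Cfsg.isometryGroup F3 q6).2 (pt i) (pt i)).trans (pt_q i))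
      exact ⟨j, hj.elim (fun h => by rw [h]) fun h => by rw [h, pr_neg]⟩)
  have hker : Subgroup.center (Cfsg.Omega F3 q6) ≤ φ.ker := fun z hz => Equiv.ext fun i =>
    hinj ((hφ z i).trans (center_move hz (pt i)))
  refine ⟨QuotientGroup.lift _ φ hker, fun j i => ?_⟩
  show ((φ (Xl j) i : Fin 126) : ℕ) = _
  obtain ⟨h, -, hv⟩ := genChk j i
  have e : φ (Xl j) i = ⟨_, h⟩ := hinj (by
    refine (hφ (Xl j) i).trans ?_
    show move _ (pr (pt i)) = pr (pt _)
    rw [move_pr, coe_Xl]
    rcases hv with hv | hv <;> rw [hv]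
    exact pr_neg _)
  rw [e]

end CfsgLib.UFour
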